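import Groth.Agent.Lib.ProjMor.QP

/-!
# Immersions into projective space over a base with an ample module
-/

noncomputable section

universe u

open CategoryTheory CategoryTheory.Limits AlgebraicGeometry

namespace Groth.Agent.Lib.AmpleEmb53.Basic

open Groth.Agent.Lib

variable {X S : Scheme.{u}} (f : X ⟶ S)

/-- Finite type with an ample module: a quasi-compact immersion into projective space. -/
theorem exists_immersion [LocallyOfFiniteType f] [QuasiCompact f] {L : X.Modules} (hL : CohB1.IsAmple L) :
    ∃ (r : ℕ) (i : X ⟶ CohB1.ProjSpaceOver r S), IsImmersion i ∧ QuasiCompact i ∧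
      i ≫ CohB1.ProjSpaceOver.toBase r S = f := by
  obtain ⟨n₀, hn⟩ := ProjMor.Conv.eventually_veryAmple_pow f hL
  obtain ⟨r, i, hi, hc, -⟩ := hn n₀ le_rfl
  haveI := ProjSpace.BaseChange.isProper_toBase (n := r) S
  haveI : QuasiCompact (i ≫ CohB1.ProjSpaceOver.toBase r S) := by
    rw [show i ≫ CohB1.ProjSpaceOver.toBase r S = f from hc]; infer_instance
  exact ⟨r, i, hi, QuasiCompact.of_comp i (CohB1.ProjSpaceOver.toBase r S), hc⟩

theorem props_of_immersion {r : ℕ} (i : X ⟶ CohB1.ProjSpaceOver r S) [IsImmersion i] [QuasiCompact i]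
    (hc : i ≫ CohB1.ProjSpaceOver.toBase r S = f) : LocallyOfFiniteType f ∧ QuasiCompact f := by
  haveI := ProjSpace.BaseChange.isProper_toBase (n := r) S
  subst hc
  exact ⟨inferInstance, inferInstance⟩

/-- An immersion into projective space gives a relatively ample module. -/
theorem exists_isRelAmple {r : ℕ} (i : X ⟶ CohB1.ProjSpaceOver r S) [IsImmersion i] [QuasiCompact i]
    (hc : i ≫ CohB1.ProjSpaceOver.toBase r S = f) : ∃ L : X.Modules, _root_.RelAmple.IsRelAmple f L := by
  obtain ⟨h1, h2⟩ := props_of_immersion f i hc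
  exact (HProj.QuasiProj.isQuasiProjective_of_immersion f r i hc).2.2

/-- A relatively ample module over a base with an ample module gives an ample module. -/
theorem exists_isAmple {K : S.Modules} (hK : CohB1.IsAmple K) {L : X.Modules}
    (hL : _root_.RelAmple.IsRelAmple f L) : ∃ M : X.Modules, CohB1.IsAmple M := by
  obtain ⟨n₀, -, hn⟩ := ProjMor.Comp.eventually_isAmple f hL hK
  exact ⟨_, hn n₀ le_rfl⟩

end Groth.Agent.Lib.AmpleEmb53.Basic
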